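import Mathlib.Algebra.Module.Basic
import Mathlib.LinearAlgebra.Finsupp.LinearCombination
import Mathlib.LinearAlgebra.Finsupp.Supported
import Mathlib.Data.Fin.Tuple.Basic
import Mathlib.Data.Finset.Max
import Mathlib.Algebra.BigOperators.Fin
import Mathlib.SetTheory.Cardinal.Finite
import Mathlib.Order.Fin.Basic
import Mathlib.Tactic.Abel

/-!
# A natural contraction of the simplex of all tuples above the number of vertices

Chains are formal combinations of tuples, indexed by their length (so length zero is the augmentation).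
-/

set_option linter.unusedSectionVars false

universe u

namespace Groth.Agent.CechFiniteLib

variable {ι : Type u} [LinearOrder ι]

/-- Chains of tuples of a given length. -/
abbrev Ch (ι : Type u) (k : ℕ) : Type u := (Fin k → ι) →₀ ℤ

/-- A tuple as a chain. -/
noncomputable abbrev tup {k : ℕ} (T : Fin k → ι) : Ch ι k := Finsupp.single T 1

/-- The boundary. -/
noncomputable def bd (k : ℕ) : Ch ι (k + 1) →ₗ[ℤ] Ch ι k :=
  Finsupp.linearCombination ℤ fun T => ∑ i : Fin (k + 1), (-1 : ℤ) ^ (i : ℕ) • tup (T ∘ i.succAbove)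

theorem bd_tup {k : ℕ} (T : Fin (k + 1) → ι) :
    bd k (tup T) = ∑ i : Fin (k + 1), (-1 : ℤ) ^ (i : ℕ) • tup (T ∘ i.succAbove) := by
  rw [bd, tup, Finsupp.linearCombination_single, one_smul]

/-- Prepending a vertex. -/
noncomputable def cone (v : ι) (k : ℕ) : Ch ι k →ₗ[ℤ] Ch ι (k + 1) :=
  Finsupp.linearCombination ℤ fun T => tup (Fin.cons v T : Fin (k + 1) → ι)

theorem cone_tup (v : ι) {k : ℕ} (T : Fin k → ι) : cone v k (tup T) = tup (Fin.cons v T) := by
  rw [cone, tup, Finsupp.linearCombination_single, one_smul]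

theorem bd_cone_tup (v : ι) {k : ℕ} (T : Fin (k + 1) → ι) :
    bd (k + 1) (cone v (k + 1) (tup T)) = tup T - cone v k (bd k (tup T)) := by
  rw [cone_tup, bd_tup, Fin.sum_univ_succ, bd_tup, map_sum, sub_eq_add_neg, ← Finset.sum_neg_distrib]
  congr 1
  · simp only [Fin.val_zero, pow_zero, one_smul]
    congr 1
  · refine Finset.sum_congr rfl fun i _ => ?_
    rw [map_smul, cone_tup, Fin.val_succ, pow_succ, mul_neg_one, neg_smul]
    congr 3
    funext a
    cases a using Fin.cases <;> simp

theorem bd_cone_zero (v : ι) (T : Fin 0 → ι) : bd 0 (cone v 0 (tup T)) = tup T := by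
  rw [cone_tup, bd_tup, Fin.sum_univ_one]
  simp only [Fin.val_zero, pow_zero, one_smul]
  exact congrArg tup (funext fun a => a.elim0)

theorem ch_ext {k : ℕ} {M : Type*} [AddCommGroup M] {f g : Ch ι k →ₗ[ℤ] M}
    (h : ∀ T, f (tup T) = g (tup T)) (z : Ch ι k) : f z = g z := by
  refine LinearMap.congr_fun (Finsupp.lhom_ext fun T a => ?_) z
  have : Finsupp.single T a = a • tup T := by simp
  rw [this, map_smul, map_smul, h]

theorem bd_cone (v : ι) {k : ℕ} (z : Ch ι (k + 1)) :
    bd (k + 1) (cone v (k + 1) z) = z - cone v k (bd k z) := by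
  have h := ch_ext (f := (bd (k + 1)).comp (cone v (k + 1)))
    (g := LinearMap.id - (cone v k).comp (bd k)) (fun T => bd_cone_tup v T) z
  simpa using h

theorem bd_bd : ∀ {k : ℕ} (z : Ch ι (k + 2)), bd k (bd (k + 1) z) = 0 := by
  intro k
  induction k with
  | zero =>
    intro z
    refine (ch_ext (f := (bd 0).comp (bd 1)) (g := 0) (fun T => ?_) z)
    rw [LinearMap.comp_apply, bd_tup, Fin.sum_univ_two, map_add, map_smul, map_smul, bd_tup, bd_tup,
      Fin.sum_univ_one, Fin.sum_univ_one]
    have : ∀ f g : Fin 0 → ι, tup f = tup g := fun f g => congrArg tup (funext fun a => a.elim0)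
    rw [this ((T ∘ (1 : Fin 2).succAbove) ∘ (0 : Fin 1).succAbove) ((T ∘ (0 : Fin 2).succAbove) ∘ (0 : Fin 1).succAbove)]
    simp
  | succ k ih =>
    intro z
    refine (ch_ext (f := (bd (k + 1)).comp (bd (k + 2))) (g := 0) (fun T => ?_) z)
    rw [LinearMap.comp_apply, LinearMap.zero_apply]
    have hT : tup T = cone (T 0) (k + 2) (tup (Fin.tail T)) := by rw [cone_tup, Fin.cons_self_tail]
    rw [hT, bd_cone, map_sub, bd_cone, ih, map_zero, sub_zero, sub_self]

/-- The least vertex of a tuple. -/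
noncomputable def low {k : ℕ} (T : Fin (k + 1) → ι) : ι :=
  (Finset.univ.image T).min' (Finset.image_nonempty.mpr Finset.univ_nonempty)

theorem low_mem {k : ℕ} (T : Fin (k + 1) → ι) : low T ∈ Set.range T := by
  obtain ⟨a, -, ha⟩ := Finset.mem_image.mp (Finset.min'_mem (Finset.univ.image T)
    (Finset.image_nonempty.mpr Finset.univ_nonempty))
  exact ⟨a, ha⟩

theorem low_le {k : ℕ} (T : Fin (k + 1) → ι) {x : ι} (hx : x ∈ Set.range T) : low T ≤ x := by
  obtain ⟨a, rfl⟩ := hx
  exact Finset.min'_le _ _ (Finset.mem_image_of_mem T (Finset.mem_univ a))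

/-- Chains of strictly increasing tuples with vertices in a set. -/
noncomputable def inc (S : Set ι) (k : ℕ) : Submodule ℤ (Ch ι k) :=
  Finsupp.supported ℤ ℤ {T | StrictMono T ∧ Set.range T ⊆ S}

/-- Chains of tuples with vertices in a set. -/
noncomputable def sup' (S : Set ι) (k : ℕ) : Submodule ℤ (Ch ι k) :=
  Finsupp.supported ℤ ℤ {T | Set.range T ⊆ S}

theorem tup_mem_sup {S : Set ι} {k : ℕ} {T : Fin k → ι} (h : Set.range T ⊆ S) : tup T ∈ sup' S k :=
  Finsupp.single_mem_supported ℤ _ h

theorem supported_induction {k : ℕ} {p : Set (Fin k → ι)} {N : Type*} [AddCommGroup N]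
    (f : Ch ι k →ₗ[ℤ] N) (M : Submodule ℤ N) (h : ∀ T ∈ p, f (tup T) ∈ M) (z : Ch ι k)
    (hz : z ∈ Finsupp.supported ℤ ℤ p) : f z ∈ M := by
  rw [Finsupp.mem_supported] at hz
  rw [← z.sum_single, map_finsuppSum]
  refine Submodule.sum_mem M fun T hT => ?_
  change f (Finsupp.single T (z T)) ∈ M
  have : Finsupp.single T (z T) = z T • tup T := by simp
  rw [this, map_smul]
  exact M.smul_mem _ (h T (hz hT))

theorem sup_mono {S S' : Set ι} (h : S ⊆ S') (k : ℕ) : sup' S k ≤ sup' S' k :=
  Finsupp.supported_mono fun _ hT => hT.trans h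

theorem bd_mem_sup {S : Set ι} {k : ℕ} {z : Ch ι (k + 1)} (hz : z ∈ sup' S (k + 1)) : bd k z ∈ sup' S k :=
  supported_induction (bd k) _ (fun T hT => by
    rw [bd_tup]
    exact Submodule.sum_mem _ fun i _ => Submodule.smul_mem _ _
      (tup_mem_sup ((Set.range_comp_subset_range _ _).trans hT))) z hz

theorem cone_mem_sup {S : Set ι} {v : ι} (hv : v ∈ S) {k : ℕ} {z : Ch ι k} (hz : z ∈ sup' S k) :
    cone v k z ∈ sup' S (k + 1) :=
  supported_induction (cone v k) _ (fun T hT => by
    rw [cone_tup]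
    refine tup_mem_sup ?_
    rw [Fin.range_cons]
    exact Set.insert_subset hv hT) z hz

theorem inc_le_sup (S : Set ι) (k : ℕ) : inc S k ≤ sup' S k :=
  Finsupp.supported_mono fun _ hT => hT.2

/-- Prepending a vertex, killing tuples that already start with it. -/
noncomputable def cone' (v : ι) : ∀ k : ℕ, Ch ι k →ₗ[ℤ] Ch ι (k + 1)
  | 0 => cone v 0
  | k + 1 => Finsupp.linearCombination ℤ fun T =>
      if T 0 = v then 0 else tup (Fin.cons v T : Fin (k + 2) → ι)

theorem cone'_tup_of_ne {v : ι} {k : ℕ} {T : Fin (k + 1) → ι} (h : T 0 ≠ v) :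
    cone' v (k + 1) (tup T) = tup (Fin.cons v T) := by
  rw [cone', tup, Finsupp.linearCombination_single, one_smul, if_neg h]

theorem cone'_tup_of_eq {v : ι} {k : ℕ} {T : Fin (k + 1) → ι} (h : T 0 = v) :
    cone' v (k + 1) (tup T) = 0 := by
  rw [cone', tup, Finsupp.linearCombination_single, one_smul, if_pos h]

theorem cone'_mem {S : Set ι} {v : ι} (hv : v ∈ S) (hle : ∀ x ∈ S, v ≤ x) :
    ∀ {k : ℕ} {z : Ch ι k}, z ∈ inc S k → cone' v k z ∈ inc S (k + 1) := by
  intro k z hz
  refine supported_induction (cone' v k) _ (fun T hT => ?_) z hz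
  match k, T, hT with
  | 0, T, _ =>
    rw [show cone' v 0 (tup T) = tup (Fin.cons v T) from cone_tup v T]
    refine Finsupp.single_mem_supported ℤ _ ⟨fun a b h => absurd h (by simp [Fin.fin_one_eq_zero a, Fin.fin_one_eq_zero b]), ?_⟩
    rintro _ ⟨a, rfl⟩
    rw [Fin.fin_one_eq_zero a, Fin.cons_zero]
    exact hv
  | k + 1, T, hT =>
    by_cases h : T 0 = v
    · rw [cone'_tup_of_eq h]; exact zero_mem _
    · rw [cone'_tup_of_ne h]
      refine Finsupp.single_mem_supported ℤ _ ⟨?_, ?_⟩
      · exact Fin.strictMono_iff_lt_succ.mpr fun i => by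
          cases i using Fin.cases with
          | zero => simpa using lt_of_le_of_ne (hle _ (hT.2 ⟨0, rfl⟩)) (Ne.symm h)
          | succ i => simpa [← Fin.succ_castSucc] using hT.1 (Fin.castSucc_lt_succ (i := i))
      · rw [Fin.range_cons]; exact Set.insert_subset hv hT.2

theorem bd_cone'_tup {v : ι} {k : ℕ} {T : Fin (k + 1) → ι} (hT : StrictMono T) (hv : v ≤ T 0) :
    bd (k + 1) (cone' v (k + 1) (tup T)) = tup T - cone' v k (bd k (tup T)) := by
  have hne : ∀ {m : ℕ} (T : Fin (m + 1) → ι), (∀ a, T a ≠ v) → cone' v (m + 1) (tup T) = cone v (m + 1) (tup T) :=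
    fun T h => (cone'_tup_of_ne (h 0)).trans (cone_tup v T).symm
  by_cases h : T 0 = v
  · rw [cone'_tup_of_eq h, map_zero, bd_tup, map_sum, Fin.sum_univ_succ, ← sub_sub]
    have h0 : cone' v k ((-1 : ℤ) ^ ((0 : Fin (k + 1)) : ℕ) • tup (T ∘ (0 : Fin (k + 1)).succAbove)) = tup T := by
      rw [map_smul, Fin.val_zero, pow_zero, one_smul]
      have e : (Fin.cons v (T ∘ (0 : Fin (k + 1)).succAbove) : Fin (k + 1) → ι) = T := by
        funext a
        cases a using Fin.cases with
        | zero => rw [Fin.cons_zero, h]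
        | succ a => simp
      match k, T, hT, h, e with
      | 0, T, _, _, e => rw [show cone' v 0 _ = cone v 0 _ from rfl, cone_tup, e]
      | m + 1, T, hT, h, e =>
        rw [cone'_tup_of_ne (fun h1 => (hT (Fin.succ_pos 0)).ne (by simpa [h] using h1.symm)), e]
    rw [h0, sub_self, zero_sub, eq_comm, neg_eq_zero]
    refine Finset.sum_eq_zero fun i _ => ?_
    match k, T, hT, h, i with
    | 0, _, _, _, i => exact i.elim0
    | m + 1, T, _, h, i =>
      rw [map_smul, cone'_tup_of_eq (by simpa using h), smul_zero]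
  · have hall : ∀ a, T a ≠ v := fun a ha =>
      h (le_antisymm ((hT.monotone (Fin.zero_le a)).trans ha.le) hv)
    rw [hne T hall, bd_cone_tup]
    congr 1
    rw [bd_tup, map_sum, map_sum]
    refine Finset.sum_congr rfl fun i _ => ?_
    rw [map_smul, map_smul]
    congr 1
    match k, T, hall, i with
    | 0, T, _, i => rfl
    | m + 1, T, hall, i => exact (hne _ fun a => hall _).symm

/-- The retraction onto increasing tuples. -/
noncomputable def proj : ∀ k : ℕ, Ch ι k →ₗ[ℤ] Ch ι k
  | 0 => LinearMap.id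
  | k + 1 => Finsupp.linearCombination ℤ fun T => cone' (low T) k (proj k (bd k (tup T)))

theorem proj_tup {k : ℕ} (T : Fin (k + 1) → ι) :
    proj (k + 1) (tup T) = cone' (low T) k (proj k (bd k (tup T))) := by
  rw [proj, tup, Finsupp.linearCombination_single, one_smul]

theorem proj_mem : ∀ {k : ℕ} {S : Set ι} {z : Ch ι k}, z ∈ sup' S k → proj k z ∈ inc S k := by
  intro k
  induction k with
  | zero =>
    intro S z hz
    refine Finsupp.supported_mono (s := {T : Fin 0 → ι | Set.range T ⊆ S}) (fun T hT => ?_) hz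
    exact ⟨fun a => a.elim0, hT⟩
  | succ k ih =>
    intro S z hz
    refine supported_induction (proj (k + 1)) _ (fun T hT => ?_) z hz
    rw [proj_tup]
    refine Finsupp.supported_mono (s := {T' : Fin (k + 1) → ι | StrictMono T' ∧ Set.range T' ⊆ Set.range T})
      (t := {T' : Fin (k + 1) → ι | StrictMono T' ∧ Set.range T' ⊆ S}) (fun T' hT' => ⟨hT'.1, hT'.2.trans hT⟩)
      (cone'_mem (S := Set.range T) (low_mem T) (fun x hx => low_le T hx) (ih (bd_mem_sup (tup_mem_sup subset_rfl))))

theorem bd_proj : ∀ {k : ℕ} (z : Ch ι (k + 1)), bd k (proj (k + 1) z) = proj k (bd k z) := by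
  intro k
  induction k with
  | zero =>
    intro z
    refine ch_ext (f := (bd 0).comp (proj (ι := ι) (0 + 1))) (g := (proj (ι := ι) 0).comp (bd 0)) (fun T => ?_) z
    rw [LinearMap.comp_apply, LinearMap.comp_apply, proj_tup]
    rw [show proj (ι := ι) 0 = LinearMap.id from rfl, show cone' (low T) 0 = cone (low T) 0 from rfl]
    simp only [LinearMap.id_coe, id_eq]
    exact ch_ext (f := (bd 0).comp (cone (low T) 0)) (g := LinearMap.id) (fun T' => bd_cone_zero _ T') (bd 0 (tup T))
  | succ k ih =>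
    intro z
    refine ch_ext (f := (bd (k + 1)).comp (proj (ι := ι) (k + 1 + 1))) (g := (proj (ι := ι) (k + 1)).comp (bd (k + 1))) (fun T => ?_) z
    rw [LinearMap.comp_apply, LinearMap.comp_apply, proj_tup]
    have hw : proj (k + 1) (bd (k + 1) (tup T)) ∈ inc (Set.range T) (k + 1) :=
      proj_mem (bd_mem_sup (tup_mem_sup subset_rfl))
    have h := supported_induction
      ((bd (k + 1)).comp (cone' (low T) (k + 1)) - LinearMap.id + (cone' (low T) k).comp (bd k)) ⊥
      (fun T' hT' => by
        simp only [LinearMap.add_apply, LinearMap.sub_apply, LinearMap.comp_apply, LinearMap.id_coe, id_eq,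
          Submodule.mem_bot, bd_cone'_tup hT'.1 (low_le T (hT'.2 (Set.mem_range_self (0 : Fin (k + 1)))))]
        abel) _ hw
    simp only [LinearMap.add_apply, LinearMap.sub_apply, LinearMap.comp_apply, LinearMap.id_coe, id_eq,
      Submodule.mem_bot] at h
    rw [ih, bd_bd, map_zero, map_zero, add_zero, sub_eq_zero] at h
    exact h

/-- The homotopy. -/
noncomputable def hty : ∀ k : ℕ, Ch ι k →ₗ[ℤ] Ch ι (k + 1)
  | 0 => 0
  | k + 1 => Finsupp.linearCombination ℤ fun T =>
      cone (T 0) (k + 1) (tup T - proj (k + 1) (tup T) - hty k (bd k (tup T)))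

theorem hty_tup {k : ℕ} (T : Fin (k + 1) → ι) :
    hty (k + 1) (tup T) = cone (T 0) (k + 1) (tup T - proj (k + 1) (tup T) - hty k (bd k (tup T))) := by
  rw [hty, tup, Finsupp.linearCombination_single, one_smul]

theorem hty_mem : ∀ {k : ℕ} {S : Set ι} {z : Ch ι k}, z ∈ sup' S k → hty k z ∈ sup' S (k + 1) := by
  intro k
  induction k with
  | zero => intro S z _; exact zero_mem _
  | succ k ih =>
    intro S z hz
    refine supported_induction (hty (k + 1)) _ (fun T hT => ?_) z hz
    rw [hty_tup]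
    refine cone_mem_sup (hT (Set.mem_range_self (0 : Fin (k + 1)))) (sub_mem (sub_mem (tup_mem_sup hT) ?_) (ih (bd_mem_sup (tup_mem_sup hT))))
    exact inc_le_sup S _ (proj_mem (tup_mem_sup hT))

theorem homotopy : ∀ {k : ℕ} (z : Ch ι (k + 1)),
    bd (k + 1) (hty (k + 1) z) + hty k (bd k z) = z - proj (k + 1) z := by
  intro k
  induction k with
  | zero =>
    intro z
    refine ch_ext (f := (bd 1).comp (hty 1) + (hty 0).comp (bd 0)) (g := LinearMap.id - proj 1) (fun T => ?_) z
    simp only [LinearMap.add_apply, LinearMap.comp_apply, LinearMap.sub_apply, LinearMap.id_coe, id_eq]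
    rw [hty_tup, bd_cone]
    simp only [hty, LinearMap.zero_apply, sub_zero, add_zero, map_sub, bd_proj]
    simp [proj]
  | succ k ih =>
    intro z
    refine ch_ext (f := (bd (k + 2)).comp (hty (k + 2)) + (hty (k + 1)).comp (bd (k + 1)))
      (g := LinearMap.id - proj (k + 2)) (fun T => ?_) z
    simp only [LinearMap.add_apply, LinearMap.comp_apply, LinearMap.sub_apply, LinearMap.id_coe, id_eq]
    rw [hty_tup, bd_cone]
    have h := ih (bd (k + 1) (tup T))
    rw [bd_bd, map_zero, add_zero] at h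
    rw [map_sub (bd (k + 1)), map_sub (bd (k + 1)), bd_proj (k := k + 1), h, sub_self, map_zero, sub_zero, sub_add_cancel]

theorem proj_eq_zero [Finite ι] {k : ℕ} (hk : Nat.card ι < k) (z : Ch ι k) : proj k z = 0 := by
  have h : proj k z ∈ inc (Set.univ : Set ι) k :=
    proj_mem (by rw [sup', show {T : Fin k → ι | Set.range T ⊆ Set.univ} = Set.univ from
      Set.eq_univ_of_forall fun T => Set.subset_univ _, Finsupp.supported_univ]; exact Submodule.mem_top)
  rw [inc, show {T : Fin k → ι | StrictMono T ∧ Set.range T ⊆ Set.univ} = ∅ from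
    Set.eq_empty_of_forall_notMem fun T hT => by
      have := Nat.card_le_card_of_injective T hT.1.injective
      simp at this
      omega, Finsupp.supported_empty] at h
  exact Submodule.mem_bot ℤ |>.mp h

end Groth.Agent.CechFiniteLib
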