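import Groth.Agent.CechFiniteLib.Chains
import Groth.Agent.CechLib.Basic
import Groth.Prelude.Def_CohTop

/-!
# Čech cohomology of a cover by `n` opens vanishes from degree `n` on
-/

set_option linter.unusedSectionVars false
set_option linter.style.haveILetI false
set_option backward.isDefEq.respectTransparency false

universe u
open CategoryTheory CategoryTheory.Limits TopologicalSpace Opposite

namespace Groth.Agent.CechFiniteLib

variable {X : TopCat.{u}} {ι : Type u} [LinearOrder ι] (U : ι → Opens X) (P : (Opens X)ᵒᵖ ⥤ AddCommGrpCat.{u})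

open CechLib

/-- Evaluation of a cochain at a chain over an open. -/
noncomputable def pair {n : ℕ} (c : Cochain U P n) (W : Opens X) : Ch ι (n + 1) →ₗ[ℤ] P.obj (op W) :=
  haveI := Classical.decPred fun T : Fin (n + 1) → ι => W ≤ cap U T
  Finsupp.linearCombination ℤ fun T => if h : W ≤ cap U T then rs P h (c T) else 0

theorem pair_tup {n : ℕ} (c : Cochain U P n) {W : Opens X} {T : Fin (n + 1) → ι} (h : W ≤ cap U T) :
    pair U P c W (tup T) = rs P h (c T) := by
  rw [pair, tup, Finsupp.linearCombination_single, one_smul, dif_pos h]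

theorem le_cap_of_range {n m : ℕ} {T : Fin n → ι} {T' : Fin m → ι} (h : Set.range T' ⊆ Set.range T) :
    cap U T ≤ cap U T' := (le_cap_iff U).mpr fun a => by
  obtain ⟨b, hb⟩ := h ⟨a, rfl⟩
  rw [← hb]
  exact cap_le U T b

/-- Chains admissible over an open. -/
noncomputable def adm (W : Opens X) (k : ℕ) : Submodule ℤ (Ch ι k) :=
  Finsupp.supported ℤ ℤ {T | W ≤ cap U T}

theorem pair_res {n : ℕ} (c : Cochain U P n) {W W' : Opens X} (h : W' ≤ W) {z : Ch ι (n + 1)}
    (hz : z ∈ adm U W (n + 1)) : pair U P c W' z = rs P h (pair U P c W z) := by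
  have h2 := supported_induction (pair U P c W' - ((rs P h).toIntLinearMap).comp (pair U P c W)) ⊥
    (fun T (hT : W ≤ cap U T) => by
      simp only [LinearMap.sub_apply, LinearMap.comp_apply, Submodule.mem_bot, sub_eq_zero,
        AddMonoidHom.coe_toIntLinearMap]
      rw [pair_tup U P c hT, pair_tup U P c (h.trans hT), rs_rs]) z hz
  simpa [sub_eq_zero] using h2

theorem pair_bd {n : ℕ} (c : Cochain U P n) {W : Opens X} {T : Fin (n + 2) → ι} (hT : W ≤ cap U T) :
    pair U P c W (bd (n + 1) (tup T)) = rs P hT (dd U P n c T) := by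
  rw [bd_tup, map_sum, dd_apply, map_sum]
  refine Finset.sum_congr rfl fun i _ => ?_
  rw [map_smul, map_zsmul, pair_tup U P c (hT.trans (cap_comp_le U T i.succAbove)), rs_rs]

theorem exists_coboundary [Finite ι] {n : ℕ} (hn : Nat.card ι < n + 2) (c : Cochain U P (n + 1))
    (hc : dd U P (n + 1) c = 0) : ∃ b, dd U P n b = c := by
  let b : Cochain U P n := fun J => pair U P c (cap U J) (hty (n + 1) (tup J))
  refine ⟨b, funext fun T => ?_⟩
  have hadm : ∀ {m : ℕ} {k : ℕ} (J : Fin m → ι) {z : Ch ι k}, z ∈ sup' (Set.range J) k → z ∈ adm U (cap U J) k :=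
    fun {m k} J {z} hz => Finsupp.supported_mono (s := {T : Fin k → ι | Set.range T ⊆ Set.range J})
      (t := {T : Fin k → ι | cap U J ≤ cap U T}) (fun _ hT => le_cap_of_range U hT) hz
  have h1 : dd U P n b T = pair U P c (cap U T) (hty (n + 1) (bd (n + 1) (tup T))) := by
    rw [dd_apply, bd_tup, map_sum, map_sum]
    refine Finset.sum_congr rfl fun i _ => ?_
    rw [map_smul, map_smul]
    exact congrArg _ (pair_res U P c (cap_comp_le U T i.succAbove)
      (hadm _ (hty_mem (tup_mem_sup subset_rfl)))).symm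
  have h2 : pair U P c (cap U T) (bd (n + 2) (hty (n + 2) (tup T))) = 0 := by
    refine (Submodule.mem_bot ℤ).mp (supported_induction ((pair U P c (cap U T)).comp (bd (n + 2))) ⊥
      (fun T' (hT' : Set.range T' ⊆ Set.range T) => ?_) _ (hty_mem (tup_mem_sup (subset_refl (Set.range T)))))
    rw [Submodule.mem_bot, LinearMap.comp_apply, pair_bd U P c (le_cap_of_range U hT'), hc]
    exact map_zero _
  rw [h1]
  have h3 := congrArg (pair U P c (cap U T)) (homotopy (tup T))
  rw [proj_eq_zero hn, sub_zero, map_add, h2, zero_add, pair_tup U P c le_rfl, rs_self] at h3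
  exact h3

theorem isZero_cechH [Finite ι] (hU : iSup U = ⊤) (q : ℕ) (hq : Nat.card ι ≤ q) :
    IsZero (CohTop.cechH P U q) := by
  rcases q with _ | n
  · haveI : IsEmpty ι := Finite.card_eq_zero_iff.mp (Nat.le_zero.mp hq)
    haveI : Subsingleton ((cx U P).X 0) := by
      haveI : Subsingleton (Cochain U P 0) := ⟨fun a b => funext fun J => isEmptyElim (J 0)⟩
      exact (cochainEquiv U P 0).toEquiv.subsingleton
    exact (ShortComplex.exact_iff_isZero_homology _).mp (ShortComplex.exact_of_isZero_X₂ ((cx U P).sc 0)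
      (AddCommGrpCat.isZero_of_subsingleton ((cx U P).X 0)))
  · exact (isZero_homology_succ_iff U P n).mpr (exists_coboundary U P (by omega))

end Groth.Agent.CechFiniteLib
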